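/- Solvability criteria reduced to the odd order theorem. -/
import Cfsg.Agent.ClassCoprime69.Basic
import Cfsg.Agent.PiClasses69.Parts
import Cfsg.Agent.PiClasses69.PTools
import Cfsg.Agent.Small.BaerSuzuki
import Cfsg.Agent.SquarefreeClasses69.Main

set_option autoImplicit false

namespace CfsgLib.FTReduction69

open Subgroup CfsgLib.ClassCoprime69 CfsgLib.PiClasses69

universe u

/-- All groups of odd order are solvable. -/
def OddSolvable : Prop :=
  ∀ (H : Type u) [Group H] [Finite H], Odd (Nat.card H) → Group.IsSolvable H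

theorem isSolvable_of_four_not_dvd (hFT : OddSolvable.{u}) {G : Type u} [Group G] [Finite G]
    (h : ∀ g : G, ¬ 4 ∣ cs g) : Group.IsSolvable G := by
  by_cases h2 : 2 ∣ Nat.card G
  · haveI := Fact.mk Nat.prime_two
    obtain ⟨P, N, hN, hc⟩ := SquarefreeClasses69.hasNormalPComplement_two h h2
    haveI := hN
    obtain ⟨j, hj⟩ := IsPGroup.iff_card.mp P.isPGroup'
    have hidx : N.index = 2 ^ j := by rw [Subgroup.IsComplement'.index_eq_card hc.symm, hj]
    have hNodd : Odd (Nat.card N) := by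
      rw [← Nat.not_even_iff_odd, even_iff_two_dvd]
      intro hd
      refine P.not_dvd_index ?_
      rw [Subgroup.IsComplement'.index_eq_card hc]
      exact hd
    haveI := hFT N hNodd
    haveI : Group.IsNilpotent (G ⧸ N) :=
      (IsPGroup.of_card (n := j) (by rw [← index_eq_card, hidx])).isNilpotent
    exact Group.isSolvable_of_ker_le_range N.subtype (QuotientGroup.mk' N)
      (by rw [QuotientGroup.ker_mk', range_subtype])
  · exact hFT G (by rwa [← Nat.not_even_iff_odd, even_iff_two_dvd])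

variable {G : Type u} [Group G] [Finite G]

/-- A non-trivial element of odd prime order inverted by another element spoils the hypothesis. -/
theorem exists_coprime_of_inverted {y s : G} {r : ℕ} (hr : r.Prime) (hr2 : r ≠ 2) (hy : orderOf y = r)
    {k : ℕ} (hk : orderOf s = 2 ^ k) (hs : s * y * s⁻¹ = y⁻¹) :
    ∃ (H : Subgroup G) (a b : H), 1 < cs a ∧ 1 < cs b ∧ (cs a).Coprime (cs b) := by
  have hy1 : y ≠ 1 := fun e => hr.ne_one (by rw [← hy, e, orderOf_one])
  have hyy : y⁻¹ ≠ y := fun e => by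
    have h1 : y ^ 2 = 1 := by rw [sq]; exact inv_eq_iff_mul_eq_one.mp e
    have h2 := orderOf_dvd_of_pow_eq_one h1
    rw [hy] at h2
    exact hr2 ((Nat.prime_dvd_prime_iff_eq hr Nat.prime_two).mp h2)
  set H := closure ({s, y} : Set G)
  set Y := zpowers y
  set S := zpowers s
  have hSY : S ≤ normalizer (Y : Set G) := by
    refine zpowers_le.mpr ?_
    refine mem_normalizer_iff.mpr fun a => ?_
    constructor
    · intro ha
      obtain ⟨i, rfl⟩ := mem_zpowers_iff.mp ha
      rw [← conj_zpow, hs]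
      exact zpow_mem (inv_mem (mem_zpowers y)) i
    · intro ha
      obtain ⟨i, hi⟩ := mem_zpowers_iff.mp ha
      have h1 : a = s⁻¹ * y ^ i * s := by rw [hi]; group
      have h2 : s⁻¹ * y * s = y⁻¹ := by
        rw [← inv_inj, inv_inv, mul_inv_rev, mul_inv_rev, inv_inv, ← mul_assoc]
        conv_rhs => rw [show y = s⁻¹ * (s * y * s⁻¹) * s by group, hs]
      rw [h1, show s⁻¹ * y ^ i * s = s⁻¹ * y ^ i * (s⁻¹)⁻¹ by rw [inv_inv], ← conj_zpow, inv_inv, h2]
      exact zpow_mem (inv_mem (mem_zpowers y)) i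
  have hHle : ∀ a ∈ H, ∃ b ∈ Y, ∃ c ∈ S, b * c = a := by
    intro a ha
    have h1 : a ∈ Y ⊔ S := by
      refine (closure_le _).mpr ?_ ha
      rintro x (rfl | rfl)
      · exact mem_sup_right (mem_zpowers _)
      · exact mem_sup_left (mem_zpowers _)
    rw [← SetLike.mem_coe, coe_mul_of_right_le_normalizer_left Y S hSY] at h1
    exact h1
  have hsH : s ∈ H := subset_closure (by simp)
  have hyH : y ∈ H := subset_closure (by simp)
  refine ⟨H, ⟨y, hyH⟩, ⟨s, hsH⟩, ?_⟩
  have hcs : ∀ a : H, cs a = (centralizer ({(a : G)} : Set G)).relIndex H := by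
    intro a
    rw [relIndex]
    show (centralizer ({a} : Set H)).index = _
    congr 1
    ext b
    rw [mem_subgroupOf, mem_Cx, mem_Cx, Subtype.ext_iff]
    rfl
  rw [hcs, hcs]
  have hYc : Y ≤ centralizer ({y} : Set G) := zpowers_le.mpr (mem_Cx_self y)
  have hSc : S ≤ centralizer ({s} : Set G) := zpowers_le.mpr (mem_Cx_self s)
  have hne1 : ∀ x : G, x ∈ H → ∀ z ∈ H, ¬ Commute z x → 1 < (centralizer ({x} : Set G)).relIndex H := by
    intro x hx z hz hc
    have h0 : (centralizer ({x} : Set G)).relIndex H ≠ 0 := index_ne_zero_of_finite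
    have h1 : (centralizer ({x} : Set G)).relIndex H ≠ 1 := fun e => hc (mem_Cx.mp (relIndex_eq_one.mp e hz))
    omega
  have hsy : ¬ Commute s y := fun hc => hyy (by rw [← hs, hc.eq, mul_inv_cancel_right])
  refine ⟨hne1 y hyH s hsH hsy, hne1 s hsH y hyH fun hc => hsy hc.symm, ?_⟩
  -- sizes divide powers of `2` and of `r`
  have hYH : Y ≤ H := zpowers_le.mpr hyH
  have hSH : S ≤ H := zpowers_le.mpr hsH
  have hHcard : Nat.card H ∣ r * 2 ^ k := by
    have e : Y ⊔ S = H := le_antisymm (sup_le hYH hSH) fun a ha => by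
      obtain ⟨b, hb, c, hc, rfl⟩ := hHle a ha
      exact mul_mem (mem_sup_left hb) (mem_sup_right hc)
    rw [← relIndex_bot_left, ← relIndex_mul_relIndex ⊥ Y H bot_le hYH, relIndex_bot_left,
      Nat.card_zpowers, hy]
    refine Nat.mul_dvd_mul_left r ?_
    rw [← hk, ← Nat.card_zpowers, ← e]
    haveI : (Y.subgroupOf (Y ⊔ S)).Normal :=
      normal_subgroupOf_iff_le_normalizer le_sup_left |>.mpr (sup_le le_normalizer hSY)
    refine dvd_trans (dvd_of_eq ?_) (relIndex_dvd_card Y S)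
    have h1 := relIndex_sup_right (G := ↥(Y ⊔ S)) (H := S.subgroupOf (Y ⊔ S)) (K := Y.subgroupOf (Y ⊔ S))
    rw [← subgroupOf_sup le_sup_right le_sup_left, sup_comm S Y, subgroupOf_self,
      relIndex_top_right, relIndex_subgroupOf le_sup_right] at h1
    exact h1
  have h1 : (centralizer ({y} : Set G)).relIndex H ∣ 2 ^ k := by
    refine (relIndex_dvd_of_le_left H hYc).trans ?_
    have := relIndex_mul_relIndex ⊥ Y H bot_le hYH
    rw [relIndex_bot_left, relIndex_bot_left, Nat.card_zpowers, hy] at this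
    rw [← this] at hHcard
    exact Nat.dvd_of_mul_dvd_mul_left hr.pos hHcard
  have h2 : (centralizer ({s} : Set G)).relIndex H ∣ r := by
    refine (relIndex_dvd_of_le_left H hSc).trans ?_
    have := relIndex_mul_relIndex ⊥ S H bot_le hSH
    rw [relIndex_bot_left, relIndex_bot_left, Nat.card_zpowers, hk] at this
    rw [← this, mul_comm r] at hHcard
    exact Nat.dvd_of_mul_dvd_mul_left (pow_pos two_pos k) hHcard
  exact Nat.Coprime.coprime_dvd_left h1 (Nat.Coprime.coprime_dvd_right h2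
    (((Nat.coprime_primes Nat.prime_two hr).mpr (Ne.symm hr2)).pow_left k))

theorem isSolvable_of_no_coprime (hFT : OddSolvable.{u})
    (h : ∀ (H : Subgroup G) (a b : H), 1 < cs a → 1 < cs b → ¬ (cs a).Coprime (cs b)) :
    Group.IsSolvable G := by
  classical
  haveI := Fact.mk Nat.prime_two
  obtain ⟨N, ⟨hNn, hN⟩, hmax⟩ := Set.Finite.exists_maximal
    (s := {N : Subgroup G | N.Normal ∧ IsPGroup 2 N}) (Set.toFinite _)
    ⟨⊥, inferInstance, IsPGroup.of_bot⟩
  haveI := hNn
  haveI : Group.IsNilpotent N := hN.isNilpotent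
  suffices hodd : Odd (Nat.card (G ⧸ N)) by
    haveI := hFT (G ⧸ N) hodd
    exact Group.isSolvable_of_ker_le_range N.subtype (QuotientGroup.mk' N)
      (by rw [QuotientGroup.ker_mk', range_subtype])
  rw [← Nat.not_even_iff_odd, even_iff_two_dvd]
  intro h2
  obtain ⟨t, ht⟩ := exists_prime_orderOf_dvd_card' (G := G ⧸ N) 2 h2
  -- a conjugate of `t` with which it generates no `2`-group
  obtain ⟨g, hg⟩ : ∃ g : G ⧸ N, ¬ IsPGroup 2 ↥(closure ({t, g * t * g⁻¹} : Set (G ⧸ N))) := by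
    by_contra hall
    push Not at hall
    obtain ⟨M, hM, hMp, htM⟩ := CfsgLib.Small.baerSuzuki_elem t hall
    have hle : N ≤ M.comap (QuotientGroup.mk' N) := fun a ha => by
      rw [mem_comap, QuotientGroup.mk'_apply, (QuotientGroup.eq_one_iff a).mpr ha]; exact one_mem M
    have hMN := hmax ⟨hM.comap _, hMp.comap_of_ker_isPGroup _ (by rwa [QuotientGroup.ker_mk'])⟩ hle
    obtain ⟨a, rfl⟩ := QuotientGroup.mk'_surjective N t
    rw [show QuotientGroup.mk' N a = 1 from (QuotientGroup.eq_one_iff a).mpr (hMN (mem_comap.mpr htM)),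
      orderOf_one] at ht
    norm_num at ht
  set u := t * (g * t * g⁻¹) with hu
  have ht' : orderOf (g * t * g⁻¹) = 2 := (CfsgLib.Small.orderOf_conj_eq g t).trans ht
  have hinv : t * u * t⁻¹ = u⁻¹ := CfsgLib.Small.invol_conj_mul ht ht'
  obtain ⟨r, hr, hr2, hru⟩ : ∃ r, r.Prime ∧ r ≠ 2 ∧ r ∣ orderOf u := by
    by_contra hall
    push Not at hall
    have hu2 := Nat.eq_prime_pow_of_unique_prime_dvd (orderOf_pos u).ne'
      (fun {d} hd hdd => by_contra fun hd2 => hall d hd hd2 hdd)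
    set j := (orderOf u).primeFactorsList.length
    refine hg fun d => ⟨j + 1, Subtype.ext ?_⟩
    rw [Subgroup.coe_pow, Subgroup.coe_one]
    have hpow : u ^ 2 ^ j = 1 := hu2 ▸ pow_orderOf_eq_one u
    obtain ⟨i, hi | hi⟩ := CfsgLib.Small.mem_closure_pair_invol ht ht' d.2
    · rw [hi, ← zpow_natCast, ← zpow_mul, mul_comm, zpow_mul, zpow_natCast, pow_succ, pow_mul, hpow,
        one_pow, one_zpow]
    · have h1 : (d : G ⧸ N) ^ 2 = 1 := by
        rw [hi, sq, show t * u ^ i * (t * u ^ i) = t * u ^ i * t⁻¹ * u ^ i by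
          rw [CfsgLib.Small.inv_eq_self_of_orderOf_two ht]; group,
          CfsgLib.Small.invol_conj_zpow hinv i, inv_mul_cancel]
      rw [pow_succ', pow_mul, h1, one_pow]
  obtain ⟨c, hc⟩ := hru
  set v := u ^ c with hv
  have hvr : orderOf v = r := by
    have hc0 : c ≠ 0 := by
      rintro rfl
      rw [mul_zero] at hc
      exact (orderOf_pos u).ne' hc
    rw [hv, orderOf_pow' u hc0, hc, Nat.gcd_mul_left_left, Nat.mul_div_cancel _ (Nat.pos_of_ne_zero hc0)]
  have htv : t * v * t⁻¹ = v⁻¹ := CfsgLib.Small.invol_conj_pow hinv c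
  haveI := Fact.mk hr
  -- lifts
  obtain ⟨y0, hy0⟩ := QuotientGroup.mk'_surjective N v
  obtain ⟨s0, hs0⟩ := QuotientGroup.mk'_surjective N t
  have hker : ∀ z : G, QuotientGroup.mk' N z = 1 → ∃ k : ℕ, z ^ 2 ^ k = 1 := fun z hz => by
    obtain ⟨k, hk⟩ := hN ⟨z, (QuotientGroup.eq_one_iff z).mp hz⟩
    exact ⟨k, congrArg Subtype.val hk⟩
  set L := (zpowers v).comap (QuotientGroup.mk' N) with hL
  have hNL : N ≤ L := fun a ha => by
    rw [hL, mem_comap, QuotientGroup.mk'_apply, (QuotientGroup.eq_one_iff a).mpr ha]; exact one_mem _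
  have hy0L : y0 ∈ L := by rw [hL, mem_comap, hy0]; exact mem_zpowers v
  obtain ⟨T⟩ : Nonempty (Sylow r L) := inferInstance
  have hcardL : Nat.card L = Nat.card N * r := by
    rw [← relIndex_bot_left, ← relIndex_mul_relIndex ⊥ N L bot_le hNL, relIndex_bot_left]
    congr 1
    rw [show N = (⊥ : Subgroup (G ⧸ N)).comap (QuotientGroup.mk' N) by
      rw [MonoidHom.comap_bot, QuotientGroup.ker_mk'], hL, relIndex_comap,
      map_comap_eq_self_of_surjective (QuotientGroup.mk'_surjective N), relIndex_bot_left,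
      Nat.card_zpowers, hvr]
  have hTr : Nat.card (T : Subgroup L) = r := by
    rw [T.card_eq_multiplicity, hcardL]
    obtain ⟨i, hi⟩ := IsPGroup.iff_card.mp hN
    rw [hi, Nat.factorization_mul (pow_ne_zero _ two_ne_zero) hr.ne_zero, Finsupp.add_apply,
      Nat.factorization_pow, Finsupp.smul_apply, hr.factorization_self,
      Nat.factorization_eq_zero_of_not_dvd
        (fun hd => hr2 ((Nat.prime_dvd_prime_iff_eq hr Nat.prime_two).mp hd))]
    simp
  obtain ⟨⟨yL, hyT⟩, hyord⟩ := exists_prime_orderOf_dvd_card' (G := (T : Subgroup L)) r (by rw [hTr])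
  rw [Subgroup.orderOf_mk] at hyord
  set y : G := (yL : G)
  have hy : orderOf y = r := by rw [← hyord]; exact Subgroup.orderOf_coe yL
  -- conjugation by `s0` preserves `L`
  have hs0L : ∀ a ∈ L, s0 * a * s0⁻¹ ∈ L := by
    intro a ha
    rw [hL, mem_comap] at ha ⊢
    obtain ⟨i, hi⟩ := mem_zpowers_iff.mp ha
    rw [map_mul, map_mul, map_inv, hs0, ← hi, ← conj_zpow, htv]
    exact zpow_mem (inv_mem (mem_zpowers v)) i
  obtain ⟨l, hl⟩ : ∃ l : L, ∀ a ∈ zpowers y, (l : G) * (s0 * a * s0⁻¹) * (l : G)⁻¹ ∈ zpowers y := by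
    let e : L →* L :=
      { toFun := fun a => ⟨s0 * a * s0⁻¹, hs0L a a.2⟩
        map_one' := Subtype.ext (by simp)
        map_mul' := fun a b => Subtype.ext (by
          show s0 * ((a : G) * b) * s0⁻¹ = s0 * a * s0⁻¹ * (s0 * b * s0⁻¹); group) }
    have hp : IsPGroup r ((T : Subgroup L).map e) := T.isPGroup'.map e
    obtain ⟨T', hT'⟩ := hp.exists_le_sylow
    obtain ⟨l, hl⟩ := MulAction.exists_smul_eq L T' T
    refine ⟨l, fun a ha => ?_⟩
    obtain ⟨i, rfl⟩ := mem_zpowers_iff.mp ha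
    have h1 : l * e (yL ^ i) * l⁻¹ ∈ (T : Subgroup L) := by
      rw [← hl, Sylow.coe_subgroup_smul, mem_pointwise_smul_iff_inv_smul_mem]
      have : (MulAut.conj l)⁻¹ • (l * e (yL ^ i) * l⁻¹) = e (yL ^ i) := by
        simp [MulAut.smul_def, mul_assoc]
      rw [this]
      exact hT' (mem_map_of_mem e (zpow_mem hyT i))
    have h2 : zpowers yL = (T : Subgroup L) :=
      eq_of_le_of_card_ge (zpowers_le.mpr hyT) (by rw [hTr, Nat.card_zpowers, hyord])
    rw [← h2] at h1
    obtain ⟨j, hj⟩ := mem_zpowers_iff.mp h1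
    refine mem_zpowers_iff.mpr ⟨j, ?_⟩
    simpa [e] using congrArg Subtype.val hj
  set s1 : G := (l : G) * s0
  have hs1 : ∀ a ∈ zpowers y, s1 * a * s1⁻¹ ∈ zpowers y := fun a ha => by
    rw [show s1 * a * s1⁻¹ = (l : G) * (s0 * a * s0⁻¹) * (l : G)⁻¹ by simp only [s1]; group]
    exact hl a ha
  set s := piPart {2} s1
  have hsN : ∀ a ∈ zpowers y, s * a * s⁻¹ ∈ zpowers y := by
    have hm : ∀ i : ℕ, ∀ a ∈ zpowers y, s1 ^ i * a * (s1 ^ i)⁻¹ ∈ zpowers y := by
      intro i
      induction i with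
      | zero => intro a ha; simpa using ha
      | succ i ih =>
        intro a ha
        rw [show s1 ^ (i + 1) * a * (s1 ^ (i + 1))⁻¹ = s1 ^ i * (s1 * a * s1⁻¹) * (s1 ^ i)⁻¹ by
          rw [pow_succ]; group]
        exact ih _ (hs1 a ha)
    exact hm _
  obtain ⟨k, hk⟩ := SquarefreeClasses69.isPi_singleton_iff.mp (isPi_piPart {2} s1)
  set π := QuotientGroup.mk' N
  obtain ⟨i, hi⟩ := mem_zpowers_iff.mp (show π (l : G) ∈ zpowers v from l.2)
  have hs1v : π s1 * v * (π s1)⁻¹ = v⁻¹ := by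
    show π ((l : G) * s0) * v * (π ((l : G) * s0))⁻¹ = v⁻¹
    rw [map_mul, hs0, ← hi, show v ^ i * t * v * (v ^ i * t)⁻¹ = v ^ i * (t * v * t⁻¹) * (v ^ i)⁻¹ by group,
      htv]
    group
  have hs1ord : (π s1) ^ 2 = 1 := by
    show (π ((l : G) * s0)) ^ 2 = 1
    rw [map_mul, hs0, ← hi, sq, show v ^ i * t * (v ^ i * t) = v ^ i * (t * v ^ i * t⁻¹) * (t * t) by group,
      CfsgLib.Small.mul_self_of_orderOf_two ht, ← conj_zpow, htv, mul_one, inv_zpow, mul_inv_cancel]
  have hπs : π s = π s1 := by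
    conv_rhs => rw [← piPart_mul {2} s1, map_mul]
    have h1 : π (piComplPart {2} s1) = 1 := by
      refine orderOf_eq_one_iff.mp (Nat.eq_one_of_dvd_coprimes ?_
        (orderOf_map_dvd π (piComplPart {2} s1)) (orderOf_dvd_of_pow_eq_one (n := 2) ?_))
      · refine (Nat.prime_two.coprime_iff_not_dvd.mpr ?_).symm
        exact SquarefreeClasses69.isPiCompl_singleton_iff.mp (isPiCompl_piComplPart {2} s1)
      · show (π ((s1 ^ piExp G {2})⁻¹ * s1)) ^ 2 = 1
        rw [map_mul, map_inv, map_pow, ((Commute.refl (π s1)).pow_left _).inv_left.mul_pow, inv_pow,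
          pow_right_comm, hs1ord, one_pow, inv_one, one_mul]
    rw [h1, mul_one]
  obtain ⟨j, hj⟩ := mem_zpowers_iff.mp (hsN y (mem_zpowers y))
  obtain ⟨d, hd⟩ := mem_zpowers_iff.mp (show π y ∈ zpowers v from yL.2)
  have hinvy : s * y * s⁻¹ = y⁻¹ := by
    have h1 : π (y ^ j) = π y⁻¹ := by
      rw [hj, map_mul, map_mul, map_inv, map_inv, hπs, ← hd, ← conj_zpow, hs1v, inv_zpow]
    have h2 : π (y ^ j * y) = 1 := by rw [map_mul, h1, map_inv, inv_mul_cancel]
    obtain ⟨e, he⟩ := hker _ h2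
    have h3 : (y ^ j * y) ^ r = 1 := by
      rw [← zpow_add_one, ← zpow_natCast, ← zpow_mul, mul_comm, zpow_mul, zpow_natCast, ← hy,
        pow_orderOf_eq_one, one_zpow]
    have h4 : y ^ j * y = 1 := orderOf_eq_one_iff.mp (Nat.eq_one_of_dvd_coprimes
      (((Nat.coprime_primes Nat.prime_two hr).mpr (Ne.symm hr2)).pow_left e)
      (orderOf_dvd_of_pow_eq_one he) (orderOf_dvd_of_pow_eq_one h3))
    rw [← hj]
    exact eq_inv_of_mul_eq_one_left h4
  obtain ⟨H, a, b, ha, hb, hab⟩ := exists_coprime_of_inverted hr hr2 hy hk hinvy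
  exact h H a b ha hb hab

end CfsgLib.FTReduction69
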